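import Mathlib
import Cfsg.Agent.Tits.Exchange

/-!
# Double cosets of parabolic subgroups of a Coxeter group (helper705, task DL-PS)

* `bimin_unique`, `exists_bimin` : every double coset `W_K w W_L` contains exactly one element which is minimal on
  both sides;
* `sum_powerset_bimin`, `sum_powerset_right` : alternating sums of the numbers of these elements.
-/

set_option autoImplicit false
set_option linter.unusedSectionVars false

namespace Cfsg.Agent.H705.Dl.PsCox

open CoxeterSystem Cfsg.Agent.Tits.Core Cfsg.Agent.Tits.Exchange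

variable {I W : Type*} [Group W] {M : CoxeterMatrix I} {cs : CoxeterSystem M W}

local prefix:100 "s" => cs.simple
local prefix:100 "ℓ" => cs.length

theorem bimin_unique_aux {K L : Set I} {d d' : W} (hd : IsMinL cs K d)
    (hd'L : IsMinL cs K d') (hR : IsMinR cs L d) (hR' : IsMinR cs L d') :
    ∀ (N : ℕ) (a : W), ℓ a ≤ N → a ∈ WJ cs K → ∀ b ∈ WJ cs L, a * d = d' * b → d = d' := by
  intro N
  induction N with
  | zero =>
    intro a ha _ b hb e
    have h1 : a = 1 := cs.length_eq_zero_iff.1 (by omega)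
    rw [h1, one_mul] at e
    exact IsMinR.unique cs hR' hR hb e
  | succ N ih =>
    intro a haN ha b hb e
    by_cases h1 : a = 1
    · rw [h1, one_mul] at e
      exact IsMinR.unique cs hR' hR hb e
    obtain ⟨ω, hω, hred, rfl⟩ := exists_reduced_of_mem_WJ cs ha
    rcases ω with _ | ⟨i, ω⟩
    · exact absurd (wordProd_nil cs) h1
    have hiK : i ∈ K := hω i (by simp)
    have hωK : ∀ j ∈ ω, j ∈ K := fun j hj => hω j (by simp [hj])
    have hlen : ℓ (cs.wordProd (i :: ω)) = ℓ (cs.wordProd ω) + 1 := by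
      rw [hred.eq, List.length_cons]
      have h2 : cs.IsReduced ω := by
        have := hred.drop 1
        simpa using this
      rw [h2.eq]
    rw [wordProd_cons] at e hlen haN
    have hω1 : cs.wordProd ω ∈ WJ cs K := wordProd_mem_WJ cs hωK
    have e2 : cs.wordProd ω * d = s i * (d' * b) := by
      rw [← e, mul_assoc, simple_mul_simple_cancel_left]
    have h2 : ℓ (s i * (d' * b)) = ℓ (cs.wordProd ω) + ℓ d := by rw [← e2, hd _ hω1]
    have h3 : ℓ (d' * b) = ℓ (cs.wordProd ω) + 1 + ℓ d := by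
      rw [← e, hd _ (mul_mem (simple_mem_WJ cs hiK) hω1), hlen]
    have h4 : ℓ (d' * b) = ℓ d' + ℓ b := hR' b hb
    have h5 : ℓ (s i * d') = ℓ d' + 1 := by
      rw [hd'L _ (simple_mem_WJ cs hiK), length_simple, add_comm]
    -- `s i * d'` is not right minimal
    have h6 : ¬ IsMinR cs L (s i * d') := by
      intro h
      have h7 := h b hb
      rw [mul_assoc] at h7
      omega
    rw [isMinR_iff] at h6
    push Not at h6
    obtain ⟨t, ht, h7⟩ := h6
    have h8 : ℓ (d' * s t) = ℓ d' + 1 := by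
      rw [hR' _ (simple_mem_WJ cs ht), length_simple]
    rcases fold cs h5 h8 with h9 | h9
    · omega
    · refine ih (cs.wordProd ω) (by omega) hω1 (s t * b) (mul_mem (simple_mem_WJ cs ht) hb) ?_
      rw [e2, ← mul_assoc, h9, mul_assoc]

/-- Two elements of a double coset `W_K w W_L`, both minimal on both sides, are equal. -/
theorem bimin_unique {K L : Set I} {d d' : W} (hd : IsMinL cs K d)
    (hd' : IsMinL cs K d') (hR : IsMinR cs L d) (hR' : IsMinR cs L d') {a b : W} (ha : a ∈ WJ cs K)
    (hb : b ∈ WJ cs L) (e : d = a * d' * b) : d = d' := by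
  refine bimin_unique_aux hd hd' hR hR' (ℓ a⁻¹) a⁻¹ le_rfl (inv_mem ha) b hb ?_
  rw [e]; group

/-- Every double coset contains an element which is minimal on both sides. -/
theorem exists_bimin (K L : Set I) (w : W) :
    ∃ a ∈ WJ cs K, ∃ b ∈ WJ cs L, ∃ d, w = a * d * b ∧ IsMinL cs K d ∧ IsMinR cs L d := by
  classical
  have hne : ∃ n, ∃ a ∈ WJ cs K, ∃ b ∈ WJ cs L, ℓ (a * w * b) = n := ⟨_, 1, one_mem _, 1, one_mem _, rfl⟩
  obtain ⟨a, ha, b, hb, hlen⟩ := Nat.find_spec hne
  refine ⟨a⁻¹, inv_mem ha, b⁻¹, inv_mem hb, a * w * b, by group, isMinL_of_min cs ?_, ?_⟩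
  · intro x hx
    rw [hlen]
    exact Nat.find_min' hne ⟨x * a, mul_mem hx ha, b, hb, by simp only [mul_assoc]⟩
  · rw [← isMinL_inv_iff]
    refine isMinL_of_min cs ?_
    intro x hx
    rw [cs.length_inv, hlen]
    have e : ℓ (x * (a * w * b)⁻¹) = ℓ (a * w * (b * x⁻¹)) := by
      rw [← cs.length_inv (a * w * (b * x⁻¹))]
      congr 1; group
    rw [e]
    exact Nat.find_min' hne ⟨a, ha, b * x⁻¹, mul_mem hb (inv_mem hx), rfl⟩

/-- An element of `W_J` with all simple reflections of `J` as left descents is the longest element. -/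
theorem eq_longest [Finite W] {J : Set I} {w : W} (hw : w ∈ WJ cs J) (h : ∀ j ∈ J, ¬ ℓ w < ℓ (s j * w)) :
    w = wJ cs J := by
  by_contra hne
  have hL := isLongest_wJ cs J
  set v := wJ cs J with hv
  have hu : v * w⁻¹ ∈ WJ cs J := mul_mem hL.mem (inv_mem hw)
  have hu1 : v * w⁻¹ ≠ 1 := fun e => hne (mul_inv_eq_one.1 e).symm
  have h1 : ℓ w + ℓ (v * w⁻¹) = ℓ v := by
    have h2 := (hL.2 (v * w⁻¹)⁻¹ (inv_mem hu)).2
    have e : (v * w⁻¹)⁻¹ * v = w := by group
    rw [e, cs.length_inv] at h2
    exact h2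
  obtain ⟨ω, hω, hred, he⟩ := exists_reduced_of_mem_WJ cs hu
  rcases List.eq_nil_or_concat ω with rfl | ⟨ω', j, rfl⟩
  · rw [wordProd_nil] at he
    exact hu1 he.symm
  rw [List.concat_eq_append] at he hred hω
  have hjJ : j ∈ J := hω j (by simp)
  have hred' : cs.IsReduced ω' := by
    have := hred.take ω'.length
    simpa using this
  have hlen : ℓ (v * w⁻¹) = ℓ (cs.wordProd ω') + 1 := by
    rw [← he, hred.eq, hred'.eq, List.length_append, List.length_singleton]
  have e1 : v = cs.wordProd ω' * (s j * w) := by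
    rw [wordProd_append, wordProd_singleton] at he
    rw [← mul_assoc, he, inv_mul_cancel_right]
  have h3 := cs.length_mul_le (cs.wordProd ω') (s j * w)
  rw [← e1] at h3
  exact h j hjJ (by omega)

theorem sum_powerset_ite {D : Finset I} [DecidableEq I] (P : I → Prop) [DecidablePred P] :
    ∑ K ∈ D.powerset, (-1 : ℤ) ^ K.card * (if ∀ i ∈ K, P i then 1 else 0) = if ∀ i ∈ D, ¬ P i then 1 else 0 := by
  have h1 : ∀ K ∈ D.powerset, (-1 : ℤ) ^ K.card * (if ∀ i ∈ K, P i then 1 else 0) =
      if K ∈ (D.filter P).powerset then (-1 : ℤ) ^ K.card else 0 := by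
    intro K hK
    rw [Finset.mem_powerset] at hK
    by_cases h : ∀ i ∈ K, P i
    · rw [if_pos h, mul_one, if_pos]
      rw [Finset.mem_powerset]
      exact fun i hi => Finset.mem_filter.2 ⟨hK hi, h i hi⟩
    · rw [if_neg h, mul_zero, if_neg]
      rw [Finset.mem_powerset]
      exact fun h2 => h fun i hi => (Finset.mem_filter.1 (h2 hi)).2
  rw [Finset.sum_congr rfl h1, ← Finset.sum_filter, Finset.filter_mem_eq_inter,
    Finset.inter_eq_right.2 (Finset.powerset_mono.2 (Finset.filter_subset _ _)),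
    Finset.sum_powerset_neg_one_pow_card]
  simp only [Finset.filter_eq_empty_iff]

variable (cs)

/-- the number of elements of `W_J` minimal on both sides -/
noncomputable def nb (J K L : Set I) : ℕ :=
  Nat.card {w : W // w ∈ WJ cs J ∧ IsMinL cs K w ∧ IsMinR cs L w}

/-- the number of elements of `W_J` minimal on the right with all elements of `D` as left descents -/
noncomputable def nr (J D L : Set I) : ℕ :=
  Nat.card {w : W // w ∈ WJ cs J ∧ (∀ j ∈ D, ¬ ℓ w < ℓ (s j * w)) ∧ IsMinR cs L w}

variable {cs}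

open scoped Classical in
theorem nb_eq [Fintype W] (J K L : Set I) : (nb cs J K L : ℤ) =
    ∑ w : W, if w ∈ WJ cs J then (if IsMinL cs K w then 1 else 0) * (if IsMinR cs L w then 1 else 0) else 0 := by
  unfold nb
  rw [Nat.card_eq_fintype_card, Fintype.card_subtype, Finset.card_filter]
  push_cast
  refine Finset.sum_congr rfl fun w _ => ?_
  by_cases h1 : w ∈ WJ cs J <;> by_cases h2 : IsMinL cs K w <;> by_cases h3 : IsMinR cs L w <;> simp [h1, h2, h3]

open scoped Classical in
theorem nr_eq [Fintype W] (J D L : Set I) : (nr cs J D L : ℤ) =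
    ∑ w : W, if w ∈ WJ cs J then (if ∀ j ∈ D, ¬ ℓ w < ℓ (s j * w) then 1 else 0) *
      (if IsMinR cs L w then 1 else 0) else 0 := by
  unfold nr
  rw [Nat.card_eq_fintype_card, Fintype.card_subtype, Finset.card_filter]
  push_cast
  refine Finset.sum_congr rfl fun w _ => ?_
  by_cases h1 : w ∈ WJ cs J <;> by_cases h2 : (∀ j ∈ D, ¬ ℓ w < ℓ (s j * w)) <;>
    by_cases h3 : IsMinR cs L w <;> simp only [h1, h2, h3, and_self, and_true, and_false, true_and,
      false_and, if_true, if_false, mul_one, mul_zero, zero_mul]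

/-- The alternating sum over the subsets of `D` on the left. -/
theorem sum_nb_left [Finite W] (J L : Set I) (D : Finset I) :
    ∑ K ∈ D.powerset, (-1 : ℤ) ^ K.card * (nb cs J K L : ℤ) = nr cs J D L := by
  classical
  have := Fintype.ofFinite W
  simp only [nb_eq, nr_eq, Finset.mul_sum]
  rw [Finset.sum_comm]
  refine Finset.sum_congr rfl fun w _ => ?_
  by_cases h1 : w ∈ WJ cs J
  · simp only [if_pos h1]
    simp only [isMinL_iff, ← mul_assoc]
    rw [← Finset.sum_mul]
    congr 1
    have := sum_powerset_ite (D := D) (fun i => ℓ w < ℓ (s i * w))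
    simp only [Finset.mem_coe]
    convert this using 3
  · simp [h1]

/-- The alternating sum on the right. -/
theorem sum_nr [Finite W] (J : Set I) (D : Finset I) (hJ : J = D) :
    ∑ L ∈ D.powerset, (-1 : ℤ) ^ L.card * (nr cs J D L : ℤ) = 1 := by
  classical
  have := Fintype.ofFinite W
  simp only [nr_eq, Finset.mul_sum]
  rw [Finset.sum_comm, Finset.sum_eq_single (wJ cs J)]
  · have hL := isLongest_wJ cs J
    have h1 : wJ cs J ∈ WJ cs J := hL.mem
    have h2 : ∀ j ∈ (D : Set I), ¬ ℓ (wJ cs J) < ℓ (s j * wJ cs J) := by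
      intro j hj
      have h3 := (hL.2 _ (simple_mem_WJ cs (show j ∈ J by rw [hJ]; exact hj))).2
      omega
    have h2' : ∀ j ∈ D, ¬ ℓ (wJ cs J) < ℓ (wJ cs J * s j) := by
      intro j hj
      have h3 := (hL.2 _ (simple_mem_WJ cs (show j ∈ J by rw [hJ]; exact hj))).1
      omega
    simp only [if_pos h1]
    simp only [if_pos h2, one_mul, isMinR_iff]
    have := sum_powerset_ite (D := D) (fun i => ℓ (wJ cs J) < ℓ (wJ cs J * s i))
    rw [if_pos h2'] at this
    simp only [Finset.mem_coe]
    convert this using 3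
  · intro w _ hw
    refine Finset.sum_eq_zero fun L _ => ?_
    by_cases h1 : w ∈ WJ cs J
    · rw [if_pos h1, if_neg, zero_mul, mul_zero]
      intro h2
      exact hw (eq_longest h1 fun j hj => h2 j (by rw [← hJ]; exact hj))
    · rw [if_neg h1, mul_zero]
  · intro h; exact absurd (Finset.mem_univ _) h

end Cfsg.Agent.H705.Dl.PsCox
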