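import Cfsg.Agent.H705.Dl.PsAbs
import Cfsg.Agent.H705.Dl.PsCox
import Cfsg.Agent.H249.OfRGD

/-!
# Multiplicities of linear characters in the constituents of `1_B^Y` (helper705, task DL-PS)
-/

set_option autoImplicit false
set_option linter.unusedSectionVars false

namespace Cfsg.Agent.H705.Dl.PsRgd

open CoxeterSystem Cfsg.Agent.ChevalleyStructure.CoxeterGeom Cfsg.Agent.Tits.Roots Cfsg.Agent.Tits.Core
  Cfsg.Agent.Tits.Exchange Cfsg.Agent.Nodes.Reps Cfsg.Agent.Nodes.BNOf Cfsg.Agent.Nodes.StabComb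
  Cfsg.Agent.Nodes.Bruhat Cfsg.Agent.Nodes.OppDec Cfsg.Agent.Nodes.LeviDec
open Cfsg Cfsg.Agent.H249 Cfsg.Agent.H249.OfRGD Cfsg.Agent.Characters.Core
open Cfsg.Agent.H705.Dl.Ps Cfsg.Agent.H705.Dl.PsCox
open Cfsg.Agent.Omega.EH3.Kf.Lev (CommGen)
open scoped commutatorElement

variable {I W Y : Type*} [Fintype I] [DecidableEq I] [Group W] [Group Y] {M : CoxeterMatrix I}
  {cs : CoxeterSystem M W} {A : I → I → ℤ} {h : IsCartan M A} {r : ℕ} {T : Subgroup Y} {n : I → Y}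
  {X : (I → ℤ) → Subgroup Y}

theorem WJ_empty : WJ cs (∅ : Set I) = ⊥ := by
  unfold WJ
  rw [Set.image_empty, Subgroup.closure_empty]

variable (R : RGD cs h r T n X)

include R

/-- a representative -/
noncomputable def rp (w : W) : Y := (exists_rp cs R.nsys w).choose

theorem rp_spec (w : W) : Rp cs R.nsys w (rp R w) := (exists_rp cs R.nsys w).choose_spec

theorem PJ_empty [Finite W] : PJ cs h T X (∅ : Set I) = RGD.B cs h T X := by
  refine le_antisymm (fun g hg => ?_) B_le_PJ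
  obtain ⟨w, hw, hc⟩ := (mem_PJ_iff_cell R).1 hg
  rw [WJ_empty, Subgroup.mem_bot] at hw
  rw [hw] at hc
  exact hc.mem_of_one

omit R in
theorem PJ_univ : PJ cs h T X (Set.univ : Set I) = GG cs h T X := by
  refine le_antisymm PJ_le_GG ?_
  rw [← LJ_univ]
  exact LJ_le_PJ

theorem PJ_mono [Finite W] {K L : Set I} (hKL : K ⊆ L) : PJ cs h T X K ≤ PJ cs h T X L := by
  intro g hg
  obtain ⟨w, hw, hc⟩ := (mem_PJ_iff_cell R).1 hg
  exact (mem_PJ_iff_cell R).2 ⟨w, WJ_mono cs hKL hw, hc⟩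

theorem rp_mem_PJ {J : Set I} {w : W} (hw : w ∈ WJ cs J) {k : Y} (hk : Rp cs R.nsys w k) : k ∈ PJ cs h T X J :=
  LJ_le_PJ (rp_mem_LJ R hw hk)

theorem cell_word {K : Set I} : ∀ (ω : List I), (∀ i ∈ ω, i ∈ K) → ∀ (k : Y), Rp cs R.nsys (cs.wordProd ω) k →
    ∀ (w : W) (g : Y), Cell R.nsys cs h X w g → ∃ v ∈ WJ cs K, Cell R.nsys cs h X (v * w) (k * g) := by
  intro ω
  induction ω with
  | nil =>
    intro _ k hk w g hg
    rw [wordProd_nil] at hk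
    exact ⟨1, one_mem _, by rw [one_mul]; exact hg.mul_left (RGD.T_le_B hk.mem_of_one)⟩
  | cons i ω ih =>
    intro hω k hk w g hg
    rw [wordProd_cons] at hk
    have h1 : Rp cs R.nsys (cs.wordProd ω) ((n i)⁻¹ * k) := by
      have := (rp_simple cs R.nsys i).inv.mul hk
      rwa [inv_mul_cancel_left] at this
    obtain ⟨v, hv, hc⟩ := ih (fun j hj => hω j (by simp [hj])) _ h1 w g hg
    have hi : i ∈ K := hω i (by simp)
    have e : k * g = n i * ((n i)⁻¹ * k * g) := by group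
    rw [e]
    rcases Cell.simple_mul R (cell_of_rp (rp_simple cs R.nsys i)) hc with h2 | ⟨-, h2⟩
    · exact ⟨cs.simple i * v, mul_mem (simple_mem_WJ cs hi) hv, by rw [mul_assoc]; exact h2⟩
    · exact ⟨v, hv, h2⟩

theorem cell_left [Finite W] {K : Set I} {a : Y} (ha : a ∈ PJ cs h T X K) {w : W} {g : Y}
    (hg : Cell R.nsys cs h X w g) : ∃ v ∈ WJ cs K, Cell R.nsys cs h X (v * w) (a * g) := by
  obtain ⟨v, hv, b₁, hb₁, k, hk, b₂, hb₂, rfl⟩ := (mem_PJ_iff_cell R).1 ha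
  obtain ⟨ω, hω, rfl⟩ := exists_word_of_mem_WJ cs hv
  obtain ⟨u, hu, hc⟩ := cell_word R ω hω k hk w (b₂ * g) (hg.mul_left hb₂)
  refine ⟨u, hu, ?_⟩
  have e : b₁ * k * b₂ * g = b₁ * (k * (b₂ * g)) := by group
  rw [e]
  exact hc.mul_left hb₁

theorem cell_right [Finite W] {L : Set I} {b : Y} (hb : b ∈ PJ cs h T X L) {w : W} {g : Y}
    (hg : Cell R.nsys cs h X w g) : ∃ v ∈ WJ cs L, Cell R.nsys cs h X (w * v) (g * b) := by
  obtain ⟨v, hv, hc⟩ := cell_left R (inv_mem hb) hg.inv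
  refine ⟨v⁻¹, inv_mem hv, ?_⟩
  have := hc.inv
  rwa [← mul_inv_rev, mul_inv_rev, inv_inv, inv_inv] at this

theorem dc_uniq [Finite W] {K L : Set I} {d d' : W} (hd : IsMinL cs K d)
    (hd' : IsMinL cs K d') (hR : IsMinR cs L d) (hR' : IsMinR cs L d') {a b : Y} (ha : a ∈ PJ cs h T X K)
    (hb : b ∈ PJ cs h T X L) (e : rp R d = a * rp R d' * b) : d = d' := by
  obtain ⟨v, hv, hc⟩ := cell_left R ha (cell_of_rp (X := X) (h := h) (rp_spec R d'))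
  obtain ⟨u, hu, hc'⟩ := cell_right R hb hc
  rw [← e] at hc'
  have h1 := Cell.unique R (cell_of_rp (rp_spec R d)) hc'
  exact bimin_unique hd hd' hR hR' hv hu h1

theorem dc_cover [Finite W] {J K L : Set I} (hK : K ⊆ J) (hL : L ⊆ J) {x : Y} (hx : x ∈ PJ cs h T X J) :
    ∃ d ∈ WJ cs J, IsMinL cs K d ∧ IsMinR cs L d ∧ ∃ a ∈ PJ cs h T X K, ∃ b ∈ PJ cs h T X L,
      x = a * rp R d * b := by
  obtain ⟨w, hw, b₁, hb₁, k, hk, b₂, hb₂, rfl⟩ := (mem_PJ_iff_cell R).1 hx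
  obtain ⟨a, ha, b, hb, d, rfl, h1, h2⟩ := exists_bimin (cs := cs) K L w
  have hd : d ∈ WJ cs J := by
    have e : d = a⁻¹ * (a * d * b) * b⁻¹ := by group
    rw [e]
    exact mul_mem (mul_mem (inv_mem (WJ_mono cs hK ha)) hw) (inv_mem (WJ_mono cs hL hb))
  obtain ⟨ka, hka⟩ := exists_rp cs R.nsys a
  obtain ⟨kb, hkb⟩ := exists_rp cs R.nsys b
  have h3 : Rp cs R.nsys (a * d * b) (ka * rp R d * kb) := (hka.mul (rp_spec R d)).mul hkb
  have ht := h3.unique hk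
  refine ⟨d, hd, h1, h2, b₁ * ka, mul_mem (B_le_PJ hb₁) (rp_mem_PJ R ha hka),
    kb * ((ka * rp R d * kb)⁻¹ * k) * b₂,
    mul_mem (mul_mem (rp_mem_PJ R hb hkb) (B_le_PJ (RGD.T_le_B ht))) (B_le_PJ hb₂), ?_⟩
  group

theorem dc_cover_U [Finite W] {J L : Set I} (hL : L ⊆ J) {x : Y} (hx : x ∈ PJ cs h T X J) :
    ∃ d ∈ WJ cs J, IsMinR cs L d ∧ ∃ u ∈ RGD.Sup X (RGD.Pos cs h), ∃ b ∈ PJ cs h T X L,
      x = u * rp R d * b := by
  obtain ⟨d, hd, -, h2, a, ha, b, hb, rfl⟩ := dc_cover R (K := ∅) (Set.empty_subset _) hL hx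
  rw [PJ_empty R] at ha
  obtain ⟨t, ht, u, hu, e⟩ := R.mem_B.1 (inv_mem ha)
  refine ⟨d, hd, h2, u⁻¹, inv_mem hu, (rp R d)⁻¹ * t⁻¹ * rp R d * b, ?_, ?_⟩
  · refine mul_mem (B_le_PJ (RGD.T_le_B ?_)) hb
    have h3 := conj_T R (rp_spec R d).inv (inv_mem ht)
    rwa [inv_inv] at h3
  · have e2 : a = u⁻¹ * t⁻¹ := by
      rw [← inv_inv a, e]; group
    rw [e2]; group

/-- the linear characters -/
structure Supp (cs : CoxeterSystem M W) (h : IsCartan M A) (X : (I → ℤ) → Subgroup Y) (l : Y → ℂ) (D : Finset I) :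
    Prop where
  chr : Chr (RGD.Sup X (RGD.Pos cs h)) l
  mem : ∀ i ∈ D, ∃ u ∈ X (sr i), l u ≠ 1
  not_mem : ∀ i, i ∉ D → ∀ u ∈ X (sr i), l u = 1

theorem bad [Finite W] {l : Y → ℂ} {D : Finset I} (hl : Supp cs h X l D) {w : W} {k : Y} (hk : Rp cs R.nsys w k)
    {j : I} (hj : j ∈ D) (hw : cs.length w < cs.length (cs.simple j * w)) :
    ∃ u ∈ RGD.Sup X (RGD.Pos cs h), k⁻¹ * u * k ∈ RGD.B cs h T X ∧ l u ≠ 1 := by
  obtain ⟨u, hu, hu1⟩ := hl.mem j hj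
  refine ⟨u, RGD.le_Sup (S := RGD.Pos cs h) ⟨isRoot_sr cs h j, sr_nonneg j⟩ hu, ?_, hu1⟩
  have h1 : cs.length w⁻¹ < cs.length (w⁻¹ * cs.simple j) := by
    have e : w⁻¹ * cs.simple j = (cs.simple j * w)⁻¹ := by rw [mul_inv_rev, cs.inv_simple]
    rw [e, cs.length_inv, cs.length_inv]
    exact hw
  exact RGD.X_le_B ((isRoot_sr cs h j).act w⁻¹) ((lt_iff' cs h w⁻¹ j).1 h1)
    (R.conj_mem' hk (isRoot_sr cs h j) hu)

omit R in
theorem Supp.eq_one_of_mem {l : Y → ℂ} {D : Finset I} (hl : Supp cs h X l D) (hC : CommGen cs h X)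
    {x : I → ℤ} (hx : IsRoot cs h x) (h0 : 0 ≤ x) (hD : ∀ i ∈ D, x ≠ sr i) {u : Y} (hu : u ∈ X x) : l u = 1 := by
  by_cases hs : ∃ i, x = sr i
  · obtain ⟨i, rfl⟩ := hs
    exact hl.not_mem i (fun hi => hD i hi rfl) u hu
  · push Not at hs
    have h1 := hC x hx h0 hs hu
    let S' : Subgroup Y :=
      { carrier := {u | u ∈ RGD.Sup X (RGD.Pos cs h) ∧ l u = 1}
        mul_mem' := by
          rintro a b ⟨ha, ea⟩ ⟨hb, eb⟩
          exact ⟨mul_mem ha hb, by rw [hl.chr.mul a ha b hb, ea, eb, one_mul]⟩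
        one_mem' := ⟨one_mem _, hl.chr.one⟩
        inv_mem' := by
          rintro a ⟨ha, ea⟩
          refine ⟨inv_mem ha, ?_⟩
          have := hl.chr.mul_inv ha
          rwa [ea, one_mul] at this }
    have h2 : ⁅RGD.Sup X (RGD.Pos cs h), RGD.Sup X (RGD.Pos cs h)⁆ ≤ S' := by
      rw [Subgroup.commutator_le]
      intro a ha b hb
      refine ⟨mul_mem (mul_mem (mul_mem ha hb) (inv_mem ha)) (inv_mem hb), ?_⟩
      rw [commutatorElement_def, hl.chr.mul _ (mul_mem (mul_mem ha hb) (inv_mem ha)) _ (inv_mem hb),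
        hl.chr.mul _ (mul_mem ha hb) _ (inv_mem ha), hl.chr.mul _ ha _ hb]
      linear_combination l b * l b⁻¹ * hl.chr.mul_inv ha + hl.chr.mul_inv hb
    exact (h2 h1).2

theorem good [Finite W] {l : Y → ℂ} {D : Finset I} (hl : Supp cs h X l D) (hC : CommGen cs h X)
    {w : W} {k : Y} (hk : Rp cs R.nsys w k) (hw : ∀ j ∈ D, ¬ cs.length w < cs.length (cs.simple j * w))
    {u : Y} (hu : u ∈ RGD.Sup X (RGD.Pos cs h)) (hB : k⁻¹ * u * k ∈ RGD.B cs h T X) : l u = 1 := by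
  have h1 := mem_PW_of_conj R hk hu hB
  let S' : Subgroup Y :=
    { carrier := {u | u ∈ RGD.Sup X (RGD.Pos cs h) ∧ l u = 1}
      mul_mem' := by
        rintro a b ⟨ha, ea⟩ ⟨hb, eb⟩
        exact ⟨mul_mem ha hb, by rw [hl.chr.mul a ha b hb, ea, eb, one_mul]⟩
      one_mem' := ⟨one_mem _, hl.chr.one⟩
      inv_mem' := by
        rintro a ⟨ha, ea⟩
        refine ⟨inv_mem ha, ?_⟩
        have := hl.chr.mul_inv ha
        rwa [ea, one_mul] at this }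
  have h2 : RGD.Sup X (PW cs h w⁻¹) ≤ S' := by
    refine RGD.Sup_le fun x hx v hv => ?_
    refine ⟨RGD.le_Sup (S := RGD.Pos cs h) ⟨hx.1, hx.2.1⟩ hv, hl.eq_one_of_mem hC hx.1 hx.2.1 ?_ hv⟩
    rintro i hi rfl
    apply hw i hi
    have h3 : cs.length w⁻¹ < cs.length (w⁻¹ * cs.simple i) := (lt_iff' cs h w⁻¹ i).2 hx.2.2
    have e : w⁻¹ * cs.simple i = (cs.simple i * w)⁻¹ := by rw [mul_inv_rev, cs.inv_simple]
    rwa [e, cs.length_inv, cs.length_inv] at h3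
  exact (h2 h1).2

end Cfsg.Agent.H705.Dl.PsRgd
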