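import Cfsg.Agent.H40.GGAbs
import Cfsg.Agent.H249.Lam

/-!
# Multiplicities of linear characters and double cosets (helper705, task DL-PS)
-/

set_option autoImplicit false
set_option linter.unusedSectionVars false

namespace Cfsg.Agent.H705.Dl.Ps

open Cfsg Cfsg.Agent.Characters.Core Cfsg.Agent.H249
open scoped ComplexConjugate Classical

variable {G : Type*} [Group G]

theorem chr_one (H : Subgroup G) : Chr H (fun _ => (1 : ℂ)) := ⟨rfl, fun _ _ _ _ => (mul_one 1).symm⟩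

section

variable [Fintype G]

/-- the multiplicity of the linear character `l` of `H` in the restriction of `χ` -/
noncomputable def mu (H : Subgroup G) (l χ : G → ℂ) : ℂ :=
  (Nat.card H : ℂ)⁻¹ * ∑ g : G, if g ∈ H then l g⁻¹ * χ g else 0

theorem sum_ite_mem (H : Subgroup G) (f : G → ℂ) : (∑ g : G, if g ∈ H then f g else 0) = ∑ g : H, f g := by
  rw [← Finset.sum_filter]
  refine (Finset.sum_subtype _ (fun x => ?_) _)
  rw [Finset.mem_filter]
  exact ⟨fun h => h.2, fun h => ⟨Finset.mem_univ _, h⟩⟩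

/-- a linear character as a homomorphism -/
noncomputable def toHom {H : Subgroup G} {l : G → ℂ} (hl : Chr H l) : H →* ℂˣ :=
  MonoidHom.toHomUnits { toFun := fun h => l h, map_one' := hl.one, map_mul' := fun a b => hl.mul a a.2 b b.2 }

omit [Fintype G] in
theorem toHom_apply {H : Subgroup G} {l : G → ℂ} (hl : Chr H l) (h : H) : ((toHom hl h : ℂˣ) : ℂ) = l h := rfl

theorem exists_mu {H : Subgroup G} {l : G → ℂ} (hl : Chr H l) {χ : G → ℂ} (hχ : IsCharacter G χ) :
    ∃ m : ℕ, mu H l χ = m := by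
  obtain ⟨m, hm⟩ := H40.GG.exists_mult_lin H (toHom hl) hχ
  refine ⟨m, ?_⟩
  have h1 : ∑ g : G, (if g ∈ H then l g⁻¹ * χ g else 0) = (Nat.card H : ℂ) * m := by
    rw [sum_ite_mem H (fun g => l g⁻¹ * χ g), ← hm]
    refine Finset.sum_congr rfl fun u _ => ?_
    rw [← map_inv, toHom_apply, Subgroup.coe_inv]
  rw [mu, h1, ← mul_assoc, inv_mul_cancel₀ card_ne_zero_complex, one_mul]

/-- the multiplicity as a natural number -/
noncomputable def mn (H : Subgroup G) (l χ : G → ℂ) : ℕ := ⌊(mu H l χ).re⌋₊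

theorem mn_spec {H : Subgroup G} {l : G → ℂ} (hl : Chr H l) {χ : G → ℂ} (hχ : IsCharacter G χ) :
    mu H l χ = (mn H l χ : ℂ) := by
  obtain ⟨m, hm⟩ := exists_mu hl hχ
  rw [mn, hm, Complex.natCast_re, Nat.floor_natCast]

/-- the double coset -/
def DC (H K : Subgroup G) (y : G) : Set G := {x | ∃ h ∈ H, ∃ k ∈ K, x = h * y * k}

theorem card_dc (H K : Subgroup G) (y : G) :
    Nat.card {z : G × G // z.1 ∈ DC H K y ∧ z.2 ∈ H ∧ z.1⁻¹ * z.2 * z.1 ∈ K} = Nat.card H * Nat.card K := by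
  have h0 : ∀ x : G, x ∈ DC H K y → ∃ a b : G, a ∈ H ∧ b ∈ K ∧ x = a * y * b := by
    rintro x ⟨a, ha, b, hb, e⟩
    exact ⟨a, b, ha, hb, e⟩
  choose! a b ha hb hab using h0
  rw [← Nat.card_prod]
  refine Nat.card_congr
    { toFun := fun z => (⟨z.1.2 * a z.1.1, mul_mem z.2.2.1 (ha _ z.2.1)⟩,
        ⟨b z.1.1 * (z.1.1⁻¹ * z.1.2 * z.1.1)⁻¹, mul_mem (hb _ z.2.1) (inv_mem z.2.2.2)⟩)
      invFun := fun q => ⟨((q.1 : G) * y * q.2, q.1 * (a ((q.1 : G) * y * q.2))⁻¹), ?_⟩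
      left_inv := ?_
      right_inv := ?_ }
  · have hx : ((q.1 : G) * y * q.2) ∈ DC H K y := ⟨_, q.1.2, _, q.2.2, rfl⟩
    refine ⟨hx, mul_mem q.1.2 (inv_mem (ha _ hx)), ?_⟩
    have e := hab _ hx
    have e2 : ((q.1 : G) * y * q.2)⁻¹ * (q.1 * (a ((q.1 : G) * y * q.2))⁻¹) * ((q.1 : G) * y * q.2) =
        (q.2 : G)⁻¹ * b ((q.1 : G) * y * q.2) := by
      generalize a ((q.1 : G) * y * q.2) = a' at e ⊢
      generalize b ((q.1 : G) * y * q.2) = b' at e ⊢
      have e3 : ((q.1 : G) * y * q.2)⁻¹ * (q.1 * a'⁻¹) * ((q.1 : G) * y * q.2) =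
          (q.2 : G)⁻¹ * y⁻¹ * a'⁻¹ * ((q.1 : G) * y * q.2) := by group
      rw [e3, e]; group
    exact e2 ▸ mul_mem (inv_mem q.2.2) (hb _ hx)
  · rintro ⟨⟨x, u⟩, hx, hu, hux⟩
    have e := hab x hx
    have e1 : (u * a x) * y * (b x * (x⁻¹ * u * x)⁻¹) = x := by
      have : (u * a x) * y * (b x * (x⁻¹ * u * x)⁻¹) = u * (a x * y * b x) * (x⁻¹ * u * x)⁻¹ := by group
      rw [this, ← e]; group
    apply Subtype.ext
    simp only [e1]
    rw [mul_inv_cancel_right]
  · rintro ⟨⟨h, hh⟩, ⟨k, hk⟩⟩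
    have hx : (h * y * k) ∈ DC H K y := ⟨_, hh, _, hk, rfl⟩
    have e := hab _ hx
    refine Prod.ext (Subtype.ext ?_) (Subtype.ext ?_)
    · simp
    · simp only
      generalize a (h * y * k) = a' at e ⊢
      generalize b (h * y * k) = b' at e ⊢
      have e3 : b' = y⁻¹ * a'⁻¹ * (h * y * k) := by rw [e]; group
      rw [e3]; group

/-- The sum over the double cosets. -/
theorem sum_dc {ι : Type*} [Fintype ι] (H K : Subgroup G) (y : ι → G) (hcov : ∀ x, ∃ d, x ∈ DC H K (y d))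
    (huniq : ∀ d d', y d ∈ DC H K (y d') → d = d') {l : G → ℂ} (hl : Chr H l) (good : ι → Prop)
    (hgood : ∀ d, good d → ∀ u ∈ H, (y d)⁻¹ * u * y d ∈ K → l u = 1)
    (hbad : ∀ d, ¬ good d → ∃ u ∈ H, (y d)⁻¹ * u * y d ∈ K ∧ l u ≠ 1) :
    ∑ x : G, ∑ u : G, (if u ∈ H ∧ x⁻¹ * u * x ∈ K then l u⁻¹ else 0) =
      (Nat.card H : ℂ) * Nat.card K * Nat.card {d // good d} := by
  have hconj : ∀ {h u : G}, h ∈ H → u ∈ H → l (h⁻¹ * u * h) = l u := by
    intro h u hh hu
    rw [hl.mul _ (mul_mem (inv_mem hh) hu) _ hh, hl.mul _ (inv_mem hh) _ hu]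
    have := hl.mul_inv hh
    linear_combination (l u) * this
  -- one double coset
  have key : ∀ d, ∑ x : G, (if x ∈ DC H K (y d) then
      ∑ u : G, (if u ∈ H ∧ x⁻¹ * u * x ∈ K then l u⁻¹ else 0) else 0) =
      if good d then (Nat.card H : ℂ) * Nat.card K else 0 := by
    intro d
    split_ifs with hd
    · have h1 : ∀ x : G, (if x ∈ DC H K (y d) then
          ∑ u : G, (if u ∈ H ∧ x⁻¹ * u * x ∈ K then l u⁻¹ else 0) else 0) =
          ∑ u : G, (if x ∈ DC H K (y d) ∧ u ∈ H ∧ x⁻¹ * u * x ∈ K then (1 : ℂ) else 0) := by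
        intro x
        by_cases hx : x ∈ DC H K (y d)
        · rw [if_pos hx]
          refine Finset.sum_congr rfl fun u _ => ?_
          by_cases hu : u ∈ H ∧ x⁻¹ * u * x ∈ K
          · rw [if_pos hu, if_pos ⟨hx, hu⟩]
            obtain ⟨h, hh, k, hk, rfl⟩ := hx
            have h2 : (y d)⁻¹ * (h⁻¹ * u⁻¹ * h) * y d ∈ K := by
              have e : (y d)⁻¹ * (h⁻¹ * u⁻¹ * h) * y d = k * ((h * y d * k)⁻¹ * u * (h * y d * k))⁻¹ * k⁻¹ := by
                group
              rw [e]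
              exact mul_mem (mul_mem hk (inv_mem hu.2)) (inv_mem hk)
            rw [← hconj hh (inv_mem hu.1)]
            exact hgood d hd _ (mul_mem (mul_mem (inv_mem hh) (inv_mem hu.1)) hh) h2
          · rw [if_neg hu, if_neg (fun h => hu h.2)]
        · rw [if_neg hx]
          symm
          exact Finset.sum_eq_zero fun u _ => if_neg fun h => hx h.1
      rw [Finset.sum_congr rfl fun x _ => h1 x, ← Finset.sum_product', Finset.univ_product_univ,
        ← Finset.sum_filter, Finset.sum_const, nsmul_eq_mul, mul_one]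
      have h2 := card_dc H K (y d)
      rw [Nat.card_eq_fintype_card, Fintype.card_subtype] at h2
      rw [h2]
      push_cast
      ring
    · refine Finset.sum_eq_zero fun x _ => ?_
      by_cases hx : x ∈ DC H K (y d)
      · rw [if_pos hx]
        obtain ⟨h, hh, k, hk, rfl⟩ := hx
        obtain ⟨u₀, hu₀, hu₁, hu₂⟩ := hbad d hd
        set v := h * u₀ * h⁻¹ with hv
        have hvH : v ∈ H := mul_mem (mul_mem hh hu₀) (inv_mem hh)
        have hvK : (h * y d * k)⁻¹ * v * (h * y d * k) ∈ K := by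
          have e : (h * y d * k)⁻¹ * v * (h * y d * k) = k⁻¹ * ((y d)⁻¹ * u₀ * y d) * k := by rw [hv]; group
          rw [e]
          exact mul_mem (mul_mem (inv_mem hk) hu₁) hk
        have hlv : l v ≠ 1 := by
          have e : h⁻¹ * v * h = u₀ := by rw [hv]; group
          rw [← hconj hh hvH, e]
          exact hu₂
        have hlv' : l v⁻¹ ≠ 1 := by
          intro h3
          apply hlv
          have h4 := hl.mul_inv hvH
          rwa [h3, mul_one] at h4
        set F : G → ℂ := fun u => if u ∈ H ∧ (h * y d * k)⁻¹ * u * (h * y d * k) ∈ K then l u⁻¹ else 0 with hF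
        have h3 : ∑ u : G, F u = l v⁻¹ * ∑ u : G, F u := by
          rw [Finset.mul_sum]
          refine Fintype.sum_equiv (Equiv.mulRight v⁻¹) _ _ fun u => ?_
          have e : ((h * y d * k)⁻¹ * (u * v⁻¹) * (h * y d * k)) =
              ((h * y d * k)⁻¹ * u * (h * y d * k)) * ((h * y d * k)⁻¹ * v * (h * y d * k))⁻¹ := by group
          have h5 : (u * v⁻¹ ∈ H ∧ (h * y d * k)⁻¹ * (u * v⁻¹) * (h * y d * k) ∈ K) ↔
              (u ∈ H ∧ (h * y d * k)⁻¹ * u * (h * y d * k) ∈ K) := by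
            rw [e, H.mul_mem_cancel_right (inv_mem hvH), K.mul_mem_cancel_right (inv_mem hvK)]
          simp only [hF, Equiv.coe_mulRight]
          simp only [h5]
          split_ifs with h6
          · have e7 : (u * v⁻¹)⁻¹ = v * u⁻¹ := by group
            rw [e7, hl.mul _ hvH _ (inv_mem h6.1), ← mul_assoc]
            have h8 := hl.mul_inv hvH
            rw [mul_comm] at h8
            rw [h8, one_mul]
          · rw [mul_zero]
        have h4 : (1 - l v⁻¹) * ∑ u : G, F u = 0 := by linear_combination h3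
        rcases mul_eq_zero.1 h4 with h5 | h5
        · exact absurd (sub_eq_zero.1 h5).symm hlv'
        · exact h5
      · rw [if_neg hx]
  -- the partition
  have hpart : ∀ x : G, ∀ z : ℂ, z = ∑ d, if x ∈ DC H K (y d) then z else 0 := by
    intro x z
    obtain ⟨d, hd⟩ := hcov x
    rw [Finset.sum_eq_single d, if_pos hd]
    · intro d' _ hne
      rw [if_neg]
      intro hd'
      apply hne
      apply huniq
      obtain ⟨h, hh, k, hk, e⟩ := hd
      obtain ⟨h', hh', k', hk', e'⟩ := hd'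
      refine ⟨h'⁻¹ * h, mul_mem (inv_mem hh') hh, k * k'⁻¹, mul_mem hk (inv_mem hk'), ?_⟩
      have e2 : y d' = h'⁻¹ * x * k'⁻¹ := by rw [e']; group
      rw [e2, e]; group
    · intro h; exact absurd (Finset.mem_univ _) h
  rw [Finset.sum_congr rfl fun x _ => hpart x _, Finset.sum_comm, Finset.sum_congr rfl fun d _ => key d,
    ← Finset.sum_filter, Finset.sum_const, nsmul_eq_mul, Nat.card_eq_fintype_card (α := {d // good d}),
    Fintype.card_subtype]
  ring

/-- **The inner product of two multiplicity functions.** -/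
theorem inner_eq [Fintype (IrrCharacter G)] {ι : Type*} [Fintype ι] (H K : Subgroup G) (y : ι → G)
    (hcov : ∀ x, ∃ d, x ∈ DC H K (y d))
    (huniq : ∀ d d', y d ∈ DC H K (y d') → d = d') {l : G → ℂ} (hl : Chr H l) (good : ι → Prop)
    (hgood : ∀ d, good d → ∀ u ∈ H, (y d)⁻¹ * u * y d ∈ K → l u = 1)
    (hbad : ∀ d, ¬ good d → ∃ u ∈ H, (y d)⁻¹ * u * y d ∈ K ∧ l u ≠ 1) :
    ∑ χ : IrrCharacter G, mn H l (χ : G → ℂ) * mn K (fun _ => 1) (χ : G → ℂ) = Nat.card {d // good d} := by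
  have h1 := H40.GG.sum_pair (G := G) (fun u => if u ∈ H then l u⁻¹ else 0) (fun u => if u ∈ K then 1 else 0)
  have h2 := sum_dc H K y hcov huniq hl good hgood hbad
  have h3 : ∑ x : G, ∑ u : G, (if u ∈ H then l u⁻¹ else 0) * (if x⁻¹ * u * x ∈ K then (1 : ℂ) else 0) =
      ∑ x : G, ∑ u : G, (if u ∈ H ∧ x⁻¹ * u * x ∈ K then l u⁻¹ else 0) := by
    refine Finset.sum_congr rfl fun x _ => Finset.sum_congr rfl fun u _ => ?_
    by_cases h4 : u ∈ H <;> by_cases h5 : x⁻¹ * u * x ∈ K <;> simp [h4, h5]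
  rw [h3, h2] at h1
  have hH : (Nat.card H : ℂ) ≠ 0 := card_ne_zero_complex
  have hK : (Nat.card K : ℂ) ≠ 0 := card_ne_zero_complex
  have h4 : ∀ χ : IrrCharacter G, (∑ u : G, (if u ∈ H then l u⁻¹ else 0) * (χ : G → ℂ) u) *
      (∑ v : G, (if v ∈ K then (1 : ℂ) else 0) * conj ((χ : G → ℂ) v)) =
      (Nat.card H : ℂ) * Nat.card K * ((mn H l (χ : G → ℂ) * mn K (fun _ => 1) (χ : G → ℂ) : ℕ) : ℂ) := by
    intro χ
    have e1 : (∑ u : G, (if u ∈ H then l u⁻¹ else 0) * (χ : G → ℂ) u) =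
        (Nat.card H : ℂ) * (mn H l (χ : G → ℂ) : ℂ) := by
      rw [← mn_spec hl (isIrr_isCharacter χ.2), mu, ← mul_assoc, mul_inv_cancel₀ hH, one_mul]
      exact Finset.sum_congr rfl fun u _ => by split_ifs <;> simp
    have e2 : (∑ v : G, (if v ∈ K then (1 : ℂ) else 0) * conj ((χ : G → ℂ) v)) =
        (Nat.card K : ℂ) * (mn K (fun _ => 1) (χ : G → ℂ) : ℂ) := by
      have h5 : (∑ v : G, (if v ∈ K then (1 : ℂ) else 0) * conj ((χ : G → ℂ) v)) =
          conj (∑ v : G, (if v ∈ K then (1 : ℂ) * (χ : G → ℂ) v else 0)) := by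
        rw [map_sum]
        exact Finset.sum_congr rfl fun u _ => by split_ifs <;> simp
      have h6 : (∑ v : G, (if v ∈ K then (1 : ℂ) * (χ : G → ℂ) v else 0)) =
          (Nat.card K : ℂ) * (mn K (fun _ => 1) (χ : G → ℂ) : ℂ) := by
        rw [← mn_spec (chr_one K) (isIrr_isCharacter χ.2), mu, ← mul_assoc, mul_inv_cancel₀ hK, one_mul]
      rw [h5, h6, map_mul, Complex.conj_natCast, Complex.conj_natCast]
    rw [e1, e2]
    push_cast
    ring
  rw [Finset.sum_congr rfl fun χ _ => h4 χ, ← Finset.mul_sum] at h1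
  have h5 := mul_left_cancel₀ (mul_ne_zero hH hK) h1
  exact_mod_cast h5

theorem mu_sum {ι : Type*} (H : Subgroup G) (l : G → ℂ) (s : Finset ι) (c : ι → ℂ) (f : ι → G → ℂ) :
    mu H l (∑ i ∈ s, c i • f i) = ∑ i ∈ s, c i * mu H l (f i) := by
  unfold mu
  have h1 : ∀ g : G, (if g ∈ H then l g⁻¹ * (∑ i ∈ s, c i • f i) g else 0) =
      ∑ i ∈ s, c i * (if g ∈ H then l g⁻¹ * f i g else 0) := by
    intro g
    split_ifs with hg
    · rw [Finset.sum_apply, Finset.mul_sum]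
      exact Finset.sum_congr rfl fun i _ => by simp only [Pi.smul_apply, smul_eq_mul]; ring
    · simp
  rw [Finset.sum_congr rfl fun g _ => h1 g, Finset.sum_comm, Finset.mul_sum]
  refine Finset.sum_congr rfl fun i _ => ?_
  rw [← Finset.mul_sum]
  ring

/-- **A generalised character of norm one containing `l` once.** -/
theorem mult_ge [Fintype (IrrCharacter G)] {ι : Type*} (S : Finset ι) (e : ι → ℤ) (H : ι → Subgroup G)
    (U : Subgroup G) {l : G → ℂ} (hl : Chr U l)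
    (h1 : ∑ i ∈ S, ∑ j ∈ S, e i * e j *
      ((∑ χ : IrrCharacter G, mn (H i) (fun _ => 1) (χ : G → ℂ) * mn (H j) (fun _ => 1) (χ : G → ℂ) : ℕ) : ℤ) = 1)
    (h2 : ∑ j ∈ S, e j *
      ((∑ χ : IrrCharacter G, mn U l (χ : G → ℂ) * mn (H j) (fun _ => 1) (χ : G → ℂ) : ℕ) : ℤ) = 1)
    {ψ : G → ℂ} (hψ : IsCharacter G ψ) :
    ∑ i ∈ S, e i * (mn (H i) (fun _ => 1) ψ : ℤ) ≤ mn U l ψ := by
  set b : IrrCharacter G → ℤ := fun χ => ∑ i ∈ S, e i * (mn (H i) (fun _ => 1) (χ : G → ℂ) : ℤ) with hb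
  have hsq : ∑ χ : IrrCharacter G, b χ * b χ = 1 := by
    rw [← h1]
    have : ∀ χ : IrrCharacter G, b χ * b χ = ∑ i ∈ S, ∑ j ∈ S, e i * e j *
        ((mn (H i) (fun _ => 1) (χ : G → ℂ) * mn (H j) (fun _ => 1) (χ : G → ℂ) : ℕ) : ℤ) := by
      intro χ
      simp only [hb]
      rw [Finset.sum_mul_sum]
      refine Finset.sum_congr rfl fun i _ => Finset.sum_congr rfl fun j _ => ?_
      push_cast
      ring
    rw [Finset.sum_congr rfl fun χ _ => this χ, Finset.sum_comm]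
    refine Finset.sum_congr rfl fun i _ => ?_
    rw [Finset.sum_comm]
    refine Finset.sum_congr rfl fun j _ => ?_
    rw [← Finset.mul_sum]
    push_cast
    rfl
  have hlin : ∑ χ : IrrCharacter G, b χ * (mn U l (χ : G → ℂ) : ℤ) = 1 := by
    rw [← h2]
    have : ∀ χ : IrrCharacter G, b χ * (mn U l (χ : G → ℂ) : ℤ) = ∑ j ∈ S, e j *
        ((mn U l (χ : G → ℂ) * mn (H j) (fun _ => 1) (χ : G → ℂ) : ℕ) : ℤ) := by
      intro χ
      simp only [hb]
      rw [Finset.sum_mul]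
      refine Finset.sum_congr rfl fun i _ => ?_
      push_cast
      ring
    rw [Finset.sum_congr rfl fun χ _ => this χ, Finset.sum_comm]
    refine Finset.sum_congr rfl fun j _ => ?_
    rw [← Finset.mul_sum]
    push_cast
    rfl
  -- the irreducible characters
  have hirr : ∀ χ : IrrCharacter G, b χ ≤ mn U l (χ : G → ℂ) := by
    intro χ
    by_contra hcon
    push Not at hcon
    have hpos : 1 ≤ b χ := by
      have : (0 : ℤ) ≤ mn U l (χ : G → ℂ) := Int.natCast_nonneg _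
      omega
    have h3 : b χ * b χ ≤ 1 := by
      rw [← hsq]
      exact Finset.single_le_sum (f := fun χ => b χ * b χ) (fun χ _ => mul_self_nonneg _) (Finset.mem_univ χ)
    have h4 : b χ = 1 := by nlinarith
    have h5 : ∀ χ' : IrrCharacter G, χ' ≠ χ → b χ' = 0 := by
      intro χ' hne
      have h6 : b χ * b χ + b χ' * b χ' ≤ 1 := by
        rw [← hsq, ← Finset.sum_pair (f := fun χ => b χ * b χ) (Ne.symm hne)]
        exact Finset.sum_le_sum_of_subset_of_nonneg (Finset.subset_univ _) fun χ _ _ => mul_self_nonneg _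
      rw [h4] at h6
      have h7 : b χ' * b χ' = 0 := le_antisymm (by linarith) (mul_self_nonneg _)
      exact mul_self_eq_zero.1 h7
    rw [Finset.sum_eq_single χ (fun χ' _ hne => by rw [h5 χ' hne, zero_mul])
      (fun h => absurd (Finset.mem_univ _) h), h4, one_mul] at hlin
    rw [h4, hlin] at hcon
    exact absurd hcon (lt_irrefl _)
  obtain ⟨c, hc⟩ := exists_nat_comb hψ
  have hmul : ∀ (K : Subgroup G) (l' : G → ℂ), Chr K l' →
      (mn K l' ψ : ℤ) = ∑ χ : IrrCharacter G, (c χ : ℤ) * (mn K l' (χ : G → ℂ) : ℤ) := by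
    intro K l' hl'
    have h3 : (mn K l' ψ : ℂ) = ∑ χ : IrrCharacter G, (c χ : ℂ) * (mn K l' (χ : G → ℂ) : ℂ) := by
      rw [← mn_spec hl' hψ]
      have h4 : ψ = ∑ χ : IrrCharacter G, (c χ : ℂ) • (χ : G → ℂ) := by
        rw [hc]
        exact Finset.sum_congr rfl fun χ _ => (Nat.cast_smul_eq_nsmul ℂ _ _).symm
      conv_lhs => rw [h4]
      rw [mu_sum]
      exact Finset.sum_congr rfl fun χ _ => by rw [mn_spec hl' (isIrr_isCharacter χ.2)]
    exact_mod_cast h3
  have h6 : ∑ i ∈ S, e i * (mn (H i) (fun _ => 1) ψ : ℤ) = ∑ χ : IrrCharacter G, (c χ : ℤ) * b χ := by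
    have : ∀ i ∈ S, e i * (mn (H i) (fun _ => 1) ψ : ℤ) =
        ∑ χ : IrrCharacter G, (c χ : ℤ) * (e i * (mn (H i) (fun _ => 1) (χ : G → ℂ) : ℤ)) := by
      intro i _
      rw [hmul (H i) _ (chr_one _), Finset.mul_sum]
      exact Finset.sum_congr rfl fun χ _ => by ring
    rw [Finset.sum_congr rfl this, Finset.sum_comm]
    exact Finset.sum_congr rfl fun χ _ => by rw [← Finset.mul_sum]
  rw [h6, hmul U l hl]
  exact Finset.sum_le_sum fun χ _ => mul_le_mul_of_nonneg_left (hirr χ) (Int.natCast_nonneg _)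

/-- Equality of two functions on the constituents of a permutation character. -/
theorem eq_of_sum_eq [Fintype (IrrCharacter G)] {ι : Type*} (S : Finset ι) (e : ι → ℤ) (H : ι → Subgroup G)
    (U B : Subgroup G) {l : G → ℂ} {N : ℤ}
    (hge : ∀ χ : IrrCharacter G, ∑ i ∈ S, e i * (mn (H i) (fun _ => 1) (χ : G → ℂ) : ℤ) ≤ mn U l (χ : G → ℂ))
    (h1 : ((∑ χ : IrrCharacter G, mn U l (χ : G → ℂ) * mn B (fun _ => 1) (χ : G → ℂ) : ℕ) : ℤ) = N)
    (h2 : ∑ j ∈ S, e j *
      ((∑ χ : IrrCharacter G, mn (H j) (fun _ => 1) (χ : G → ℂ) * mn B (fun _ => 1) (χ : G → ℂ) : ℕ) : ℤ) = N)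
    (χ : IrrCharacter G) (hχ : mn B (fun _ => 1) (χ : G → ℂ) ≠ 0) :
    (mn U l (χ : G → ℂ) : ℤ) = ∑ i ∈ S, e i * (mn (H i) (fun _ => 1) (χ : G → ℂ) : ℤ) := by
  have h3 : ∑ χ : IrrCharacter G, ((mn U l (χ : G → ℂ) : ℤ) -
      ∑ i ∈ S, e i * (mn (H i) (fun _ => 1) (χ : G → ℂ) : ℤ)) * (mn B (fun _ => 1) (χ : G → ℂ) : ℤ) = 0 := by
    have h4 : ∑ χ : IrrCharacter G, (∑ i ∈ S, e i * (mn (H i) (fun _ => 1) (χ : G → ℂ) : ℤ)) *
        (mn B (fun _ => 1) (χ : G → ℂ) : ℤ) = N := by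
      rw [← h2]
      have : ∀ χ : IrrCharacter G, (∑ i ∈ S, e i * (mn (H i) (fun _ => 1) (χ : G → ℂ) : ℤ)) *
          (mn B (fun _ => 1) (χ : G → ℂ) : ℤ) = ∑ j ∈ S, e j *
          ((mn (H j) (fun _ => 1) (χ : G → ℂ) * mn B (fun _ => 1) (χ : G → ℂ) : ℕ) : ℤ) := by
        intro χ
        rw [Finset.sum_mul]
        refine Finset.sum_congr rfl fun i _ => ?_
        push_cast
        ring
      rw [Finset.sum_congr rfl fun χ _ => this χ, Finset.sum_comm]
      refine Finset.sum_congr rfl fun j _ => ?_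
      rw [← Finset.mul_sum]
      push_cast
      rfl
    simp only [sub_mul]
    rw [Finset.sum_sub_distrib, h4, ← h1]
    push_cast
    ring
  have h5 := (Finset.sum_eq_zero_iff_of_nonneg (fun χ _ =>
    mul_nonneg (sub_nonneg.2 (hge χ)) (Int.natCast_nonneg _))).1 h3 χ (Finset.mem_univ _)
  rcases mul_eq_zero.1 h5 with h6 | h6
  · linarith
  · exact absurd (by exact_mod_cast h6) hχ

end

end Cfsg.Agent.H705.Dl.Ps
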